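import Cfsg.Agent.H226.R2.Base
import Cfsg.Agent.H776.CY.Congr
import Cfsg.Agent.H956.K547.McL

/-!
# S4829, `p = 2`: the row `McL` (helper941)

The alternating square (degree 231) of the character of degree 22 is rational and invariant under all automorphisms.
-/

set_option autoImplicit false

namespace Cfsg.Agent.H941.R2.McL

open Cfsg Cfsg.Agent.H226.R2 Cfsg.Agent.H770.CY Cfsg.Agent.Characters.Core Cfsg.Agent.H956.K547.McL
open Cfsg.Agent.H419.LeechIrr Cfsg.Agent.H740.K4.Wedge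

theorem row2_K0 : Row2 ↥K0 := by
  have hcK : Nat.card ↥K0 = 898128000 := H713.Spor.McL.facts.2
  have hfk : Finite ↥K0 := Nat.finite_of_card_ne_zero (by rw [hcK]; norm_num)
  obtain ⟨μ, -, hμ⟩ := H713.Spor.McL.exists_22
  obtain ⟨hirr, hdeg, hrt⟩ := H956.K4.McLRow.alt_mu μ hμ
  have hμ' : ∀ k, (μ : ↥K0 → ℂ) k = lchi K0.subtype k - 2 := by
    intro k
    rw [hμ k]
    push_cast
    ring
  have hinv : ∀ (α : ↥K0 ≃* ↥K0) (k : ↥K0), (μ : ↥K0 → ℂ) (α k) = (μ : ↥K0 → ℂ) k := by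
    intro α k
    obtain ⟨g, -, -, hα⟩ := exists_conj' α
    rw [hμ', hμ']
    congr 1
    show (Cfsg.Agent.Co2Type.Mono.tr8 ((α k : ↥K0) : ↥Co0) : ℂ) / 8 = (Cfsg.Agent.Co2Type.Mono.tr8 (k : ↥Co0) : ℂ) / 8
    rw [hα, tr8_conj]
  have hinv2 : ∀ (α : ↥K0 ≃* ↥K0) (k : ↥K0), alt (μ : ↥K0 → ℂ) (α k) = alt (μ : ↥K0 → ℂ) k := by
    intro α k
    unfold Cfsg.Agent.H740.K4.Wedge.alt
    rw [← map_mul, hinv, hinv]
  have h231 : alt (μ : ↥K0 → ℂ) 1 = ((231 : ℕ) : ℂ) := by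
    obtain ⟨e, -, he⟩ := isIrr_apply_one hirr
    have h5 : charDegree (alt (μ : ↥K0 → ℂ)) = e := Cfsg.Agent.H687.charDegree_of_eq he
    rw [he, ← h5, hdeg]
  refine row2_of_odd_index (Γ := ⊤) (by rw [Subgroup.index_top]; decide)
    ⟨alt (μ : ↥K0 → ℂ), hirr, ?_, ⟨231, by decide, h231⟩,
      H956.K4.McLRow.rat_of_rt (isIrr_isCharacter hirr) hrt, fun τ _ x => hinv2 τ x⟩
  intro h6
  rw [h6, Pi.one_apply] at h231
  exact absurd h231 (by norm_num)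

theorem row_of {K : Type*} [Group K] (h : Spor.IsoMcL K) : Row2 K := by
  obtain ⟨e⟩ := h
  exact H776.CY.Row2.congr (e.trans H713.Spor.McL.mclEquiv) row2_K0

theorem row2_McL : Row2 Spor.McL := row_of ⟨MulEquiv.refl _⟩

theorem rowFor2_McL : RowFor2 (fun X _ => Spor.IsoMcL X) := fun _ _ _ _ _ h => row_of h

end Cfsg.Agent.H941.R2.McL
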